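import Mathlib.GroupTheory.Perm.ViaEmbedding
import Mathlib.GroupTheory.SpecificGroups.Alternating
import Mathlib.GroupTheory.Perm.Cycle.Type
import Mathlib.Data.ZMod.Basic

/-!
# Sidki pairs in symmetric and alternating groups (helper277)

`ElemT V` : the elementary consequence of the Sidki condition in a minimal counterexample of S3010: for `1 ≠ v ∈ V` and
`x ≠ 1` of odd order inverted by `v` some `1 ≠ w ∈ V` centralises `x` and inverts no element `≠ 1` of odd order of
`C_G(⟨v, x⟩)`.

* `not_elemT` : no elementary abelian 2-subgroup `V ≠ 1` of a group `G` between `A_n` and `S_n`, `n ≥ 5`, has this property.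
-/

set_option autoImplicit false

namespace Cfsg.Agent.H277.SK

open Equiv Equiv.Perm

/-- the elementary form of the tool (T1) -/
def ElemT {G : Type*} [Group G] (V : Subgroup G) : Prop :=
  ∀ v ∈ V, v ≠ 1 → ∀ x : G, x ≠ 1 → Odd (orderOf x) → v * x * v⁻¹ = x⁻¹ →
    ∃ w ∈ V, w ≠ 1 ∧ w * x = x * w ∧ ∀ y : G, Odd (orderOf y) → y * v = v * y → y * x = x * y →
      w * y * w⁻¹ = y⁻¹ → y = 1

/-- elements of odd order which are their own inverse -/
theorem eq_one_of_odd {G : Type*} [Group G] {x : G} (hx : Odd (orderOf x)) (h : x * x = 1) : x = 1 := by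
  have h1 : orderOf x ∣ 2 := orderOf_dvd_of_pow_eq_one (by rw [pow_two]; exact h)
  rcases (Nat.dvd_prime Nat.prime_two).1 h1 with h2 | h2
  · exact orderOf_eq_one_iff.1 h2
  · rw [h2] at hx
    exact absurd hx (by decide)

section model

variable {n : ℕ}

theorem cycleType_invol (g : Perm (Fin n)) (hg : g * g = 1) :
    g.cycleType = Multiset.replicate (g.support.card / 2) 2 := by
  have h1 : ∀ k ∈ g.cycleType, k = 2 := by
    intro k hk
    have h2 := Equiv.Perm.two_le_of_mem_cycleType hk
    have h3 : k ∣ orderOf g := Equiv.Perm.dvd_of_mem_cycleType hk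
    have h4 : orderOf g ∣ 2 := orderOf_dvd_of_pow_eq_one (by rw [pow_two]; exact hg)
    exact le_antisymm (Nat.le_of_dvd (by norm_num) (h3.trans h4)) h2
  have h5 := Multiset.eq_replicate_of_mem h1
  have h6 := Equiv.Perm.sum_cycleType g
  rw [h5, Multiset.sum_replicate, smul_eq_mul] at h6
  rw [h5]
  congr 1
  omega

/-- the models of fixed point free and other involutions: an embedding `ι` of `A` in `Fin n` which carries the involution
`f` of `A` to the involution `v` -/
theorem exists_model {A : Type*} [Fintype A] [DecidableEq A] (f : Perm A) (hf : f * f = 1) (ι₀ : A ↪ Fin n)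
    (v : Perm (Fin n)) (hv : v * v = 1) (hs : v.support.card = f.support.card) :
    ∃ ι : A ↪ Fin n, ∀ a : A, v (ι a) = ι (f a) := by
  classical
  set g : Perm (Fin n) := viaEmbeddingHom ι₀ f with hg
  have hgg : g * g = 1 := by rw [hg, ← map_mul, hf, map_one]
  have hgs : g.support.card = f.support.card := by
    have h1 : g.support = f.support.map ι₀ := by
      ext y
      rw [Finset.mem_map, mem_support, hg, viaEmbeddingHom_apply]
      by_cases hy : y ∈ Set.range ι₀
      · obtain ⟨a, rfl⟩ := hy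
        rw [viaEmbedding_apply]
        constructor
        · intro h
          exact ⟨a, mem_support.2 fun h' => h (by rw [h']), rfl⟩
        · rintro ⟨b, hb, hb'⟩ h
          rw [ι₀.injective hb'] at hb
          exact mem_support.1 hb (ι₀.injective h)
      · rw [viaEmbedding_apply_of_notMem _ _ _ hy]
        constructor
        · intro h; exact absurd rfl h
        · rintro ⟨b, -, hb⟩
          exact absurd ⟨b, hb⟩ hy
    rw [h1, Finset.card_map]
  have hc : IsConj g v := by
    rw [isConj_iff_cycleType_eq, cycleType_invol g hgg, cycleType_invol v hv, hgs, hs]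
  obtain ⟨c, hc⟩ := isConj_iff.1 hc
  refine ⟨ι₀.trans c.toEmbedding, fun a => ?_⟩
  have h1 : g (ι₀ a) = ι₀ (f a) := by rw [hg, viaEmbeddingHom_apply, viaEmbedding_apply]
  simp only [Function.Embedding.trans_apply, Equiv.coe_toEmbedding]
  rw [← hc]
  rw [Perm.mul_apply, Perm.mul_apply, show c⁻¹ (c (ι₀ a)) = ι₀ a from c.symm_apply_apply _, h1]


theorem sign_of_odd {σ : Perm (Fin n)} (h : Odd (orderOf σ)) : Perm.sign σ = 1 := by
  rcases Int.units_eq_one_or (Perm.sign σ) with h1 | h1
  · exact h1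
  · have h2 : (Perm.sign σ) ^ orderOf σ = 1 := by rw [← map_pow, pow_orderOf_eq_one, map_one]
    rw [h1, h.neg_one_pow] at h2
    exact absurd h2 (by decide)

theorem via_odd {A : Type*} (ι : A ↪ Fin n) {t : Perm A} {m : ℕ} (hm : Odd m) (h : t ^ m = 1) :
    Odd (orderOf (viaEmbeddingHom ι t)) := by
  have h1 : orderOf (viaEmbeddingHom ι t) ∣ m := orderOf_dvd_of_pow_eq_one (by rw [← map_pow, h, map_one])
  exact Odd.of_dvd_nat hm h1

theorem via_app {A : Type*} (ι : A ↪ Fin n) (t : Perm A) (a : A) : viaEmbeddingHom ι t (ι a) = ι (t a) := by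
  rw [viaEmbeddingHom_apply, viaEmbedding_apply]

theorem via_out {A : Type*} (ι : A ↪ Fin n) (t : Perm A) {y : Fin n} (hy : y ∉ Set.range ι) :
    viaEmbeddingHom ι t y = y := by
  rw [viaEmbeddingHom_apply, viaEmbedding_apply_of_notMem _ _ _ hy]

/-- `v` is the image of `f` -/
theorem eq_via {A : Type*} [Fintype A] [DecidableEq A] {f : Perm A} {ι : A ↪ Fin n} {v : Perm (Fin n)}
    (hs : v.support.card = f.support.card) (h : ∀ a : A, v (ι a) = ι (f a)) : v = viaEmbeddingHom ι f := by
  have h1 : f.support.map ι ⊆ v.support := by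
    intro y hy
    obtain ⟨a, ha, rfl⟩ := Finset.mem_map.1 hy
    rw [mem_support, h a]
    intro h'
    exact mem_support.1 ha (ι.injective h')
  have h2 : f.support.map ι = v.support := Finset.eq_of_subset_of_card_le h1 (by rw [Finset.card_map, hs])
  ext y
  by_cases hy : y ∈ Set.range ι
  · obtain ⟨a, rfl⟩ := hy
    rw [via_app, h a]
  · rw [via_out ι f hy]
    have h3 : y ∉ v.support := by
      rw [← h2]
      intro h4
      obtain ⟨a, -, ha⟩ := Finset.mem_map.1 h4
      exact hy ⟨a, ha⟩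
    rw [notMem_support.1 h3]

end model

section main

variable {n : ℕ} {G : Type*} [Group G] {ψ : G →* Perm (Fin n)} (hψ : Function.Injective ψ)
  (hA : ∀ σ : Perm (Fin n), Perm.sign σ = 1 → ∃ g : G, ψ g = σ) {V : Subgroup G}
  (hc : ∀ a ∈ V, ∀ b ∈ V, a * b = b * a) (h2 : ∀ a ∈ V, a * a = 1) (hT : ElemT V)

include hψ hA hT in
/-- the tool for permutations -/
theorem tool {v : G} (hv : v ∈ V) (hv1 : v ≠ 1) {x : Perm (Fin n)} (hx1 : x ≠ 1) (hx : Odd (orderOf x))
    (hinv : ψ v * x * (ψ v)⁻¹ = x⁻¹) :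
    ∃ w ∈ V, w ≠ 1 ∧ ψ w * x = x * ψ w ∧ ∀ y : Perm (Fin n), Odd (orderOf y) → y * ψ v = ψ v * y → y * x = x * y →
      ψ w * y * (ψ w)⁻¹ = y⁻¹ → y = 1 := by
  obtain ⟨x, rfl⟩ := hA x (sign_of_odd hx)
  rw [orderOf_injective ψ hψ] at hx
  rw [← map_inv, ← map_mul, ← map_mul, ← map_inv] at hinv
  obtain ⟨w, hw, hw1, hwx, hwy⟩ := hT v hv hv1 x (fun h => hx1 (by rw [h, map_one])) hx (hψ hinv)
  refine ⟨w, hw, hw1, by rw [← map_mul, hwx, map_mul], fun y hy h3 h4 h5 => ?_⟩
  obtain ⟨y, rfl⟩ := hA y (sign_of_odd hy)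
  rw [orderOf_injective ψ hψ] at hy
  rw [← map_mul, ← map_mul] at h3 h4
  rw [← map_inv, ← map_mul, ← map_mul, ← map_inv] at h5
  rw [hwy y hy (hψ h3) (hψ h4) (hψ h5), map_one]

/-- negation on `ZMod m` -/
def ng (m : ℕ) : Perm (ZMod m) := Equiv.neg _

theorem ng_support {m : ℕ} [NeZero m] (hm : Odd m) : (ng m).support.card = m - 1 := by
  have h1 : (ng m).support = Finset.univ.erase 0 := by
    ext a
    rw [mem_support, Finset.mem_erase]
    constructor
    · intro h
      exact ⟨fun h0 => h (by rw [h0]; simp [ng]), Finset.mem_univ _⟩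
    · rintro ⟨h, -⟩ h'
      apply h
      have h2 : -a = a := h'
      have h3 : (2 : ZMod m) * a = 0 := by
        have : a + a = 0 := by nth_rewrite 1 [← h2]; exact neg_add_cancel a
        rw [two_mul]; exact this
      have h4 : IsUnit (2 : ZMod m) := by
        have := (ZMod.isUnit_iff_coprime 2 m).2 ((Nat.coprime_two_left).2 hm)
        exact_mod_cast this
      exact (h4.mul_right_eq_zero).1 h3
  rw [h1, Finset.card_erase_of_mem (Finset.mem_univ _), Finset.card_univ, ZMod.card]

/-- the translations of `ZMod m` -/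
def tr (m : ℕ) (b : ZMod m) : Perm (ZMod m) := Equiv.addRight b

theorem tr_apply {m : ℕ} (b a : ZMod m) : tr m b a = a + b := rfl

theorem tr_pow {m : ℕ} (b : ZMod m) (k : ℕ) : tr m b ^ k = tr m (k * b) := by
  induction k with
  | zero => ext a; simp [tr_apply]
  | succ k ih =>
    rw [pow_succ, ih]
    ext a
    rw [Perm.mul_apply, tr_apply, tr_apply, tr_apply]
    push_cast
    ring

theorem tr_pow_self {m : ℕ} (b : ZMod m) : tr m b ^ m = 1 := by
  rw [tr_pow]
  ext a
  rw [tr_apply, ZMod.natCast_self, zero_mul, add_zero]; rfl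

/-- the nonzero elements of an odd `ZMod` are not their own negatives -/
theorem dbl {m : ℕ} (hm : Odd m) {a : ZMod m} (h : a + a = 0) : a = 0 := by
  have h3 : (2 : ZMod m) * a = 0 := by rw [two_mul]; exact h
  have h4 : IsUnit (2 : ZMod m) := by
    have := (ZMod.isUnit_iff_coprime 2 m).2 ((Nat.coprime_two_left).2 hm)
    exact_mod_cast this
  exact (h4.mul_right_eq_zero).1 h3

include hψ hA h2 hT in
/-- elements of maximal support have no fixed points -/
theorem no_fixed {v : G} (hv : v ∈ V) (hv1 : v ≠ 1)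
    (hmax : ∀ u ∈ V, (ψ u).support.card ≤ (ψ v).support.card) (p : Fin n) : ψ v p ≠ p := by
  intro hp
  have hvv : ψ v * ψ v = 1 := by rw [← map_mul, h2 v hv, map_one]
  obtain ⟨c, hcc⟩ : ∃ c, (ψ v).support.card = c + c := by
    have h3 := cycleType_invol (ψ v) hvv
    have h4 := Equiv.Perm.sum_cycleType (ψ v)
    rw [h3, Multiset.sum_replicate, smul_eq_mul] at h4
    exact ⟨(ψ v).support.card / 2, by omega⟩
  have hpos : (ψ v).support.card ≠ 0 := by
    rw [Ne, Finset.card_eq_zero, support_eq_empty_iff]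
    intro h; exact hv1 (hψ (by rw [h, map_one]))
  obtain ⟨m, hm⟩ : ∃ m, m = 2 * c + 1 := ⟨_, rfl⟩
  have : NeZero m := ⟨by omega⟩
  have : Fact (1 < m) := ⟨by omega⟩
  have hodd : Odd m := ⟨c, hm⟩
  have hcard : m ≤ n := by
    have h3 : (insert p (ψ v).support).card ≤ n := by
      have := Finset.card_le_univ (insert p (ψ v).support)
      rwa [Fintype.card_fin] at this
    rw [Finset.card_insert_of_notMem (fun h => mem_support.1 h hp)] at h3
    omega
  obtain ⟨ι₀⟩ : Nonempty (ZMod m ↪ Fin n) := by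
    rw [Function.Embedding.nonempty_iff_card_le, ZMod.card, Fintype.card_fin]; exact hcard
  have hff : ng m * ng m = 1 := by
    ext a; simp [ng]
  have hsup : (ψ v).support.card = (ng m).support.card := by rw [ng_support hodd]; omega
  obtain ⟨ι, hι⟩ := exists_model (ng m) hff ι₀ (ψ v) hvv hsup
  have hvia := eq_via hsup hι
  have hx1 : viaEmbeddingHom ι (tr m 1) ≠ 1 := by
    intro h
    have h3 := via_app ι (tr m 1) 0
    rw [h, tr_apply, zero_add, Perm.one_apply] at h3
    exact zero_ne_one (ι.injective h3)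
  obtain ⟨w, hw, hw1, hwx, -⟩ := tool hψ hA hT hv hv1 hx1 (via_odd ι hodd (tr_pow_self 1)) (by
    rw [hvia, ← map_inv, ← map_mul, ← map_mul, ← map_inv]
    congr 1
    ext a
    rw [Perm.mul_apply, Perm.mul_apply, tr_apply]
    have h3 : (tr m 1)⁻¹ a = a - 1 := by
      rw [Perm.inv_eq_iff_eq, tr_apply]; ring
    rw [h3]
    change -(-a + 1) = a - 1
    ring)
  have hww : ψ w * ψ w = 1 := by rw [← map_mul, h2 w hw, map_one]
  have happ : ∀ y, ψ w (viaEmbeddingHom ι (tr m 1) y) = viaEmbeddingHom ι (tr m 1) (ψ w y) := fun y => by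
    rw [← Perm.mul_apply, hwx, Perm.mul_apply]
  obtain ⟨b, hb⟩ : ψ w (ι 0) ∈ Set.range ι := by
    by_contra hout
    have h3 := happ (ι 0)
    rw [via_out ι _ hout, via_app, tr_apply, zero_add] at h3
    exact zero_ne_one (ι.injective ((ψ w).injective h3.symm))
  have hk : ∀ k : ℕ, ψ w (ι (k : ZMod m)) = ι (b + k) := by
    intro k
    induction k with
    | zero => rw [Nat.cast_zero, add_zero, hb]
    | succ k ih =>
      have h3 := happ (ι (k : ZMod m))
      rw [ih, via_app, via_app, tr_apply, tr_apply] at h3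
      push_cast
      rw [h3, add_assoc]
  have hk' : ∀ a : ZMod m, ψ w (ι a) = ι (b + a) := by
    intro a
    rw [← ZMod.natCast_zmod_val a, hk]
  have hb0 : b = 0 := by
    have h3 : ψ w (ψ w (ι 0)) = ι 0 := by rw [← Perm.mul_apply, hww, Perm.one_apply]
    rw [hk', hk', add_zero] at h3
    exact dbl hodd (ι.injective h3)
  have hfix : ∀ a : ZMod m, ψ w (ι a) = ι a := by intro a; rw [hk', hb0, zero_add]
  have hdisj : Disjoint (ψ w) (ψ v) := by
    intro y
    by_cases hy : y ∈ Set.range ι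
    · obtain ⟨a, rfl⟩ := hy
      exact Or.inl (hfix a)
    · right
      rw [hvia, via_out ι _ hy]
  have h5 := hmax (w * v) (V.mul_mem hw hv)
  rw [map_mul, hdisj.card_support_mul] at h5
  have h6 : (ψ w).support.card ≠ 0 := by
    rw [Ne, Finset.card_eq_zero, support_eq_empty_iff]
    intro h; exact hw1 (hψ (by rw [h, map_one]))
  omega

/-- the 3-cycles -/
theorem cyc3 {a b c : Fin n} (hab : a ≠ b) (hac : a ≠ c) (hbc : b ≠ c) :
    (swap a b * swap a c) ^ 3 = 1 ∧ swap a b * swap a c ≠ 1 := by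
  have h1 : IsThreeCycle (swap a b * swap a c) := isThreeCycle_swap_mul_swap_same hab hac hbc
  refine ⟨?_, fun h => ?_⟩
  · have := h1.orderOf
    rw [← this]; exact pow_orderOf_eq_one _
  · have := h1.orderOf
    rw [h, orderOf_one] at this
    exact absurd this (by decide)

theorem cyc3_odd {a b c : Fin n} (hab : a ≠ b) (hac : a ≠ c) (hbc : b ≠ c) :
    Odd (orderOf (swap a b * swap a c)) := by
  rw [(isThreeCycle_swap_mul_swap_same hab hac hbc).orderOf]; decide

theorem comm_swap {w : Perm (Fin n)} {p q : Fin n} (h : w * swap p q = swap p q * w) (hpq : p ≠ q) :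
    (w p = p ∧ w q = q) ∨ (w p = q ∧ w q = p) := by
  have h1 : swap (w p) (w q) = swap p q := by
    rw [swap_apply_apply, h, mul_inv_cancel_right]
  have h2 : swap (w p) (w q) (w p) = w q := swap_apply_left _ _
  rw [h1] at h2
  by_cases h3 : w p = p
  · rw [h3, swap_apply_left] at h2
    exact Or.inl ⟨h3, h2.symm⟩
  · by_cases h4 : w p = q
    · rw [h4, swap_apply_right] at h2
      exact Or.inr ⟨h4, h2.symm⟩
    · rw [swap_apply_of_ne_of_ne h3 h4] at h2
      exact absurd (w.injective h2) hpq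

include hψ hA hc h2 hT in
/-- `V` contains no transposition, if `n ≥ 4` is even -/
theorem no_transposition (hn : 4 ≤ n) (hne : Even n) {v : G} (hv : v ∈ V) {p q : Fin n} (hpq : p ≠ q)
    (hvs : ψ v = swap p q) : False := by
  obtain ⟨r, hr⟩ : ∃ r, r ∉ ({p, q} : Finset (Fin n)) := by
    by_contra h
    push Not at h
    have h3 : (Finset.univ : Finset (Fin n)) ⊆ {p, q} := fun x _ => h x
    have h4 := Finset.card_le_card h3
    rw [Finset.card_univ, Fintype.card_fin] at h4
    have h5 := Finset.card_le_two (a := p) (b := q)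
    omega
  rw [Finset.mem_insert, Finset.mem_singleton, not_or] at hr
  obtain ⟨hrp, hrq⟩ := hr
  have hv1 : v ≠ 1 := by
    rintro rfl
    rw [map_one] at hvs
    exact hpq (swap_eq_one_iff.1 hvs.symm)
  have hpr : p ≠ r := Ne.symm hrp
  have hqr : q ≠ r := Ne.symm hrq
  obtain ⟨w, hw, hw1, hwx, hwy⟩ := tool hψ hA hT hv hv1 (cyc3 hpq hpr hqr).2 (cyc3_odd hpq hpr hqr) (by
    rw [hvs, swap_inv, mul_inv_rev, swap_inv, swap_inv, ← mul_assoc, swap_mul_self, one_mul])
  have hwv : ψ w * swap p q = swap p q * ψ w := by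
    rw [← hvs, ← map_mul, ← map_mul, hc w hw v hv]
  have hwr : ψ w * swap p r = swap p r * ψ w := by
    have h3 : swap p q * (ψ w * swap p r) = swap p q * (swap p r * ψ w) := by
      rw [← mul_assoc, ← hwv, mul_assoc, hwx, mul_assoc]
    exact mul_left_cancel h3
  have hfp : ψ w p = p := by
    rcases comm_swap hwv hpq with h3 | h3
    · exact h3.1
    · rcases comm_swap hwr hpr with h4 | h4
      · exact h4.1
      · exact absurd (h3.1.symm.trans h4.1) hqr
  have hfq : ψ w q = q := by
    rcases comm_swap hwv hpq with h3 | h3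
    · exact h3.2
    · exact absurd (h3.1.symm.trans hfp) (Ne.symm hpq)
  have hfr : ψ w r = r := by
    rcases comm_swap hwr hpr with h3 | h3
    · exact h3.2
    · exact absurd (h3.1.symm.trans hfp) (Ne.symm hpr)
  have hww : ψ w * ψ w = 1 := by rw [← map_mul, h2 w hw, map_one]
  -- a fourth fixed point
  obtain ⟨a3, ha3, ha3'⟩ : ∃ a, a ∉ ({p, q, r} : Finset (Fin n)) ∧ ψ w a = a := by
    by_contra h
    push Not at h
    have h3 : (ψ w).support = Finset.univ \ {p, q, r} := by
      ext y
      rw [mem_support, Finset.mem_sdiff]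
      constructor
      · intro h4
        refine ⟨Finset.mem_univ _, fun h5 => h4 ?_⟩
        rw [Finset.mem_insert, Finset.mem_insert, Finset.mem_singleton] at h5
        rcases h5 with rfl | rfl | rfl
        · exact hfp
        · exact hfq
        · exact hfr
      · rintro ⟨-, h4⟩
        exact h y h4
    have h4 : (ψ w).support.card = n - 3 := by
      rw [h3, Finset.card_sdiff_of_subset (Finset.subset_univ _), Finset.card_univ, Fintype.card_fin,
        Finset.card_eq_three.2 ⟨p, q, r, hpq, hpr, hqr, rfl⟩]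
    have h5 := cycleType_invol (ψ w) hww
    have h6 := Equiv.Perm.sum_cycleType (ψ w)
    rw [h5, Multiset.sum_replicate, smul_eq_mul] at h6
    obtain ⟨k, hk⟩ := hne
    omega
  obtain ⟨a1, ha1⟩ : ∃ a, ψ w a ≠ a := by
    by_contra h
    push Not at h
    exact hw1 (hψ (by rw [map_one]; ext y; rw [h y, Perm.one_apply]))
  have hww' : ∀ y, ψ w (ψ w y) = y := fun y => by rw [← Perm.mul_apply, hww, Perm.one_apply]
  obtain ⟨a2, ha2⟩ : ∃ a2, ψ w a1 = a2 := ⟨_, rfl⟩
  have ha21 : ψ w a2 = a1 := by rw [← ha2, hww']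
  have h12 : a1 ≠ a2 := fun h => ha1 (by rw [ha2, h])
  have h13 : a1 ≠ a3 := fun h => ha1 (by rw [h]; exact ha3')
  have h23 : a2 ≠ a3 := fun h => by
    rw [h] at ha21
    exact h13 (ha21.symm.trans ha3')
  have hout1 : ∀ y, ψ w y = y → a1 ≠ y ∧ a2 ≠ y := fun y hy =>
    ⟨fun h => ha1 (by rw [h]; exact hy), fun h => by
      rw [h] at ha21
      exact ha1 (by rw [ha2, h, ← ha21, hy])⟩
  rw [Finset.mem_insert, Finset.mem_insert, Finset.mem_singleton, not_or, not_or] at ha3
  have hd : ∀ {a b c d : Fin n}, a ≠ c → a ≠ d → b ≠ c → b ≠ d → swap a b * swap c d = swap c d * swap a b := by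
    intro a b c d h3 h4 h5 h6
    have h7 : swap (swap a b c) (swap a b d) = swap a b * swap c d * (swap a b)⁻¹ := swap_apply_apply _ _ _
    rw [swap_apply_of_ne_of_ne h3.symm h5.symm, swap_apply_of_ne_of_ne h4.symm h6.symm] at h7
    exact (eq_mul_inv_iff_mul_eq.1 h7).symm
  have e1 := hout1 p hfp
  have e2 := hout1 q hfq
  have e3 := hout1 r hfr
  have c1 := hd e1.1 e2.1 e1.2 e2.2
  have c2 := hd e1.1 e3.1 e1.2 e3.2
  have c3 := hd e1.1 e2.1 (b := a3) ha3.1 ha3.2.1
  have c4 := hd e1.1 e3.1 (b := a3) ha3.1 ha3.2.2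
  refine (cyc3 h12 h13 h23).2 (hwy _ (cyc3_odd h12 h13 h23) ?_ ?_ ?_)
  · rw [hvs, mul_assoc, c3, ← mul_assoc, c1, mul_assoc]
  · calc swap a1 a2 * swap a1 a3 * (swap p q * swap p r)
        = swap a1 a2 * (swap a1 a3 * swap p q) * swap p r := by simp only [mul_assoc]
      _ = (swap a1 a2 * swap p q) * (swap a1 a3 * swap p r) := by rw [c3]; simp only [mul_assoc]
      _ = swap p q * (swap a1 a2 * swap p r) * swap a1 a3 := by rw [c1, c4]; simp only [mul_assoc]
      _ = swap p q * swap p r * (swap a1 a2 * swap a1 a3) := by rw [c2]; simp only [mul_assoc]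
  · have h3 : swap (ψ w a1) (ψ w a2) = ψ w * swap a1 a2 * (ψ w)⁻¹ := swap_apply_apply _ _ _
    have h4 : swap (ψ w a1) (ψ w a3) = ψ w * swap a1 a3 * (ψ w)⁻¹ := swap_apply_apply _ _ _
    have h5 : ψ w * (swap a1 a2 * swap a1 a3) * (ψ w)⁻¹ = (ψ w * swap a1 a2 * (ψ w)⁻¹) * (ψ w * swap a1 a3 * (ψ w)⁻¹) := by
      simp only [mul_assoc, inv_mul_cancel_left]
    rw [h5, ← h3, ← h4, ha2, ha21, ha3', mul_inv_rev, swap_inv, swap_inv, swap_comm a2 a1]
    have h6 : swap (swap a1 a2 a1) (swap a1 a2 a3) = swap a1 a2 * swap a1 a3 * (swap a1 a2)⁻¹ := swap_apply_apply _ _ _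
    rw [swap_apply_left, swap_apply_of_ne_of_ne h13.symm h23.symm, swap_inv] at h6
    rw [h6, ← mul_assoc, ← mul_assoc, swap_mul_self, one_mul]

/-- flipping and rotating -/
def fl (m : ℕ) : Perm (Bool × ZMod m) where
  toFun a := (!a.1, a.2)
  invFun a := (!a.1, a.2)
  left_inv a := by simp
  right_inv a := by simp

/-- rotating, with speed `e` on the second circle -/
def rt (m : ℕ) (e c : ZMod m) : Perm (Bool × ZMod m) where
  toFun a := (a.1, a.2 + (bif a.1 then e * c else c))
  invFun a := (a.1, a.2 - (bif a.1 then e * c else c))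
  left_inv a := by simp
  right_inv a := by simp

theorem fl_apply {m : ℕ} (b : Bool) (a : ZMod m) : fl m (b, a) = (!b, a) := rfl

theorem rt_apply {m : ℕ} (e c : ZMod m) (b : Bool) (a : ZMod m) :
    rt m e c (b, a) = (b, a + (bif b then e * c else c)) := rfl

theorem rt_pow {m : ℕ} (e c : ZMod m) (k : ℕ) : rt m e c ^ k = rt m e (k * c) := by
  induction k with
  | zero => ext ⟨b, a⟩ <;> cases b <;> simp [rt_apply]
  | succ k ih =>
    rw [pow_succ, ih]
    ext ⟨b, a⟩ <;> cases b <;> simp [rt_apply] <;> ring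

theorem rt_pow_self {m : ℕ} (e c : ZMod m) : rt m e c ^ m = 1 := by
  rw [rt_pow]
  ext ⟨b, a⟩ <;> cases b <;> simp [rt_apply]

include hψ hA hc h2 hT in
/-- the model: some `1 ≠ w ∈ V` is trivial on the part `Bool × ZMod m` -/
theorem two_circles {m : ℕ} (hm : Odd m) (hm1 : 1 < m) {B : Type} [Fintype B] [DecidableEq B] {β : Perm B}
    {v : G} (hv : v ∈ V) (hv1 : v ≠ 1) (ι : ((Bool × ZMod m) ⊕ B) ↪ Fin n)
    (hι : ψ v = viaEmbeddingHom ι (Equiv.Perm.sumCongr (fl m) β)) :
    ∃ w ∈ V, w ≠ 1 ∧ ∀ p, ψ w (ι (Sum.inl p)) = ι (Sum.inl p) := by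
  have : NeZero m := ⟨by omega⟩
  have : Fact (1 < m) := ⟨hm1⟩
  set t : Perm ((Bool × ZMod m) ⊕ B) := Equiv.Perm.sumCongr (rt m (-1) 1) 1 with ht
  set r : Perm ((Bool × ZMod m) ⊕ B) := Equiv.Perm.sumCongr (rt m 1 1) 1 with hr
  have htm : t ^ m = 1 := by
    have h3 : t = sumCongrHom _ _ (rt m (-1) 1, 1) := rfl
    rw [h3, ← map_pow, Prod.pow_mk, rt_pow_self, one_pow]; exact map_one _
  have hrm : r ^ m = 1 := by
    have h3 : r = sumCongrHom _ _ (rt m 1 1, 1) := rfl
    rw [h3, ← map_pow, Prod.pow_mk, rt_pow_self, one_pow]; exact map_one _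
  have hx1 : viaEmbeddingHom ι t ≠ 1 := by
    intro h
    have h3 := via_app ι t (Sum.inl (false, 0))
    rw [h, Perm.one_apply] at h3
    have h4 := ι.injective h3
    simp [ht, rt_apply] at h4
  have hy1 : viaEmbeddingHom ι r ≠ 1 := by
    intro h
    have h3 := via_app ι r (Sum.inl (false, 0))
    rw [h, Perm.one_apply] at h3
    have h4 := ι.injective h3
    simp [hr, rt_apply] at h4
  set f : Perm ((Bool × ZMod m) ⊕ B) := Equiv.Perm.sumCongr (fl m) β with hf
  have fl' : ∀ b a, f (Sum.inl (b, a)) = Sum.inl (!b, a) := fun b a => rfl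
  have tl : ∀ b a, t (Sum.inl (b, a)) = Sum.inl (b, a + (bif b then (-1) * 1 else 1)) := fun b a => rfl
  have rl : ∀ b a, r (Sum.inl (b, a)) = Sum.inl (b, a + (bif b then 1 * 1 else 1)) := fun b a => rfl
  have tr' : ∀ y, t (Sum.inr y) = Sum.inr y := fun y => rfl
  have rr' : ∀ y, r (Sum.inr y) = Sum.inr y := fun y => rfl
  have hftf : f * t * f⁻¹ = t⁻¹ := by
    apply mul_inv_eq_iff_eq_mul.2
    apply eq_inv_mul_of_mul_eq
    apply Equiv.ext
    rintro (⟨b, a⟩ | y)
    · rw [Perm.mul_apply, Perm.mul_apply, tl, fl', tl, fl']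
      cases b <;> simp
    · rfl
  have hrf : r * f = f * r := by
    apply Equiv.ext
    rintro (⟨b, a⟩ | y)
    · rw [Perm.mul_apply, Perm.mul_apply, fl', rl, rl, fl']
      cases b <;> simp
    · rfl
  have hrt : r * t = t * r := by
    apply Equiv.ext
    rintro (⟨b, a⟩ | y)
    · rw [Perm.mul_apply, Perm.mul_apply, tl, rl, rl, tl]
      cases b <;> simp
    · rfl
  obtain ⟨w, hw, hw1, hwx, hwy⟩ := tool hψ hA hT hv hv1 hx1 (via_odd ι hm htm) (by
    rw [hι, ← map_inv, ← map_mul, ← map_mul, ← map_inv, hftf])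
  refine ⟨w, hw, hw1, ?_⟩
  have hww : ψ w * ψ w = 1 := by rw [← map_mul, h2 w hw, map_one]
  have hww' : ∀ y, ψ w (ψ w y) = y := fun y => by rw [← Perm.mul_apply, hww, Perm.one_apply]
  have happ : ∀ y, ψ w (viaEmbeddingHom ι t y) = viaEmbeddingHom ι t (ψ w y) := fun y => by
    rw [← Perm.mul_apply, hwx, Perm.mul_apply]
  have hwv : ∀ y, ψ w (viaEmbeddingHom ι f y) = viaEmbeddingHom ι f (ψ w y) := fun y => by
    rw [← hι, ← Perm.mul_apply, ← map_mul, hc w hw v hv, map_mul, Perm.mul_apply]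
  -- the image of the base point
  obtain ⟨⟨e, b⟩, hb⟩ : ∃ p, ψ w (ι (Sum.inl (false, 0))) = ι (Sum.inl p) := by
    by_contra hout
    push Not at hout
    have h3 := happ (ι (Sum.inl (false, 0)))
    have h4 : viaEmbeddingHom ι t (ψ w (ι (Sum.inl (false, 0)))) = ψ w (ι (Sum.inl (false, 0))) := by
      by_cases hy : ψ w (ι (Sum.inl (false, 0))) ∈ Set.range ι
      · obtain ⟨p | y, hp⟩ := hy
        · exact absurd hp.symm (hout p)
        · rw [← hp, via_app, tr']
      · exact via_out ι t hy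
    rw [h4, via_app, tl] at h3
    have h5 := ι.injective ((ψ w).injective h3)
    simp at h5
  have hk : ∀ k : ℕ, ψ w (ι (Sum.inl (false, (k : ZMod m)))) = ι (Sum.inl (e, b + (bif e then -(k : ZMod m) else k))) := by
    intro k
    induction k with
    | zero => rw [Nat.cast_zero, hb]; cases e <;> simp
    | succ k ih =>
      have h3 := happ (ι (Sum.inl (false, (k : ZMod m))))
      rw [ih, via_app, via_app, tl, tl] at h3
      push_cast
      simp only [cond_false] at h3
      rw [h3]
      cases e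
      · simp [add_assoc]
      · simp only [cond_true]; congr 3; ring
  have hk' : ∀ a : ZMod m, ψ w (ι (Sum.inl (false, a))) = ι (Sum.inl (e, b + (bif e then -a else a))) := by
    intro a
    rw [← ZMod.natCast_zmod_val a, hk]
  have hk2 : ∀ a : ZMod m, ψ w (ι (Sum.inl (true, a))) = ι (Sum.inl (!e, b + (bif e then -a else a))) := by
    intro a
    have h3 := hwv (ι (Sum.inl (false, a)))
    rw [via_app, fl', hk', via_app, fl'] at h3
    exact h3
  cases e
  · -- the circles are fixed
    have hb0 : b = 0 := by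
      have h3 := hww' (ι (Sum.inl (false, 0)))
      rw [hk', hk'] at h3
      have h4 := ι.injective h3
      simp at h4
      exact dbl hm h4
    rintro ⟨b', a⟩
    cases b'
    · rw [hk', hb0]; simp
    · rw [hk2, hb0]; simp
  · -- the circles are interchanged
    exfalso
    have hin : ∀ y, (∃ p, ψ w y = ι (Sum.inl p)) → ∃ p, y = ι (Sum.inl p) := by
      rintro y ⟨⟨b', a⟩, hp⟩
      have h3 := hww' y
      rw [hp] at h3
      cases b'
      · rw [hk'] at h3; exact ⟨_, h3.symm⟩
      · rw [hk2] at h3; exact ⟨_, h3.symm⟩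
    have hro : ∀ y, (¬ ∃ p, y = ι (Sum.inl p)) → viaEmbeddingHom ι r y = y := by
      intro y hy
      by_cases hy' : y ∈ Set.range ι
      · obtain ⟨p | z, rfl⟩ := hy'
        · exact absurd ⟨p, rfl⟩ hy
        · rw [via_app, rr']
      · exact via_out ι r hy'
    refine hy1 (hwy _ (via_odd ι hm hrm) ?_ ?_ ?_)
    · rw [hι, ← map_mul, ← map_mul, hrf]
    · rw [← map_mul, ← map_mul, hrt]
    · apply mul_inv_eq_iff_eq_mul.2
      apply eq_inv_mul_of_mul_eq
      apply Equiv.ext
      intro y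
      rw [Perm.mul_apply, Perm.mul_apply]
      by_cases hy : ∃ p, y = ι (Sum.inl p)
      · obtain ⟨⟨b', a⟩, rfl⟩ := hy
        rw [via_app, rl]
        cases b'
        · rw [hk', hk', via_app, rl]
          simp only [cond_false, cond_true]
          congr 3
          ring
        · rw [hk2, hk2, via_app, rl]
          simp only [cond_true, Bool.not_true, cond_false]
          congr 3
          ring
      · rw [hro y hy, hro _ (fun h => hy (hin y h))]

include hψ hA hc h2 hT in
/-- the fixed point free case: some `1 ≠ w ∈ V` moves only the points of the part `B` -/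
theorem fpf {m : ℕ} (hm : Odd m) (hm1 : 1 < m) {B : Type} [Fintype B] [DecidableEq B] {β : Perm B} (hβ : β * β = 1)
    (hβ1 : ∀ b, β b ≠ b) {v : G} (hv : v ∈ V) (hv1 : v ≠ 1) (hfix : ∀ p, ψ v p ≠ p) (hcard : n = 2 * m + Fintype.card B) :
    ∃ ι : ((Bool × ZMod m) ⊕ B) ≃ Fin n, ∃ w ∈ V, w ≠ 1 ∧ ∀ p, ψ w (ι (Sum.inl p)) = ι (Sum.inl p) := by
  have : NeZero m := ⟨by omega⟩
  have hc1 : Fintype.card ((Bool × ZMod m) ⊕ B) = Fintype.card (Fin n) := by
    rw [Fintype.card_sum, Fintype.card_prod, Fintype.card_bool, ZMod.card, Fintype.card_fin, hcard]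
  have hff : Equiv.Perm.sumCongr (fl m) β * Equiv.Perm.sumCongr (fl m) β = 1 := by
    apply Equiv.ext
    rintro (⟨b, a⟩ | y)
    · change Sum.inl (!!b, a) = _
      rw [Bool.not_not]; rfl
    · change Sum.inr ((β * β) y) = _
      rw [hβ]; rfl
  have hsf : (Equiv.Perm.sumCongr (fl m) β).support = Finset.univ := by
    rw [Finset.eq_univ_iff_forall]
    rintro (⟨b, a⟩ | y)
    · rw [mem_support]
      change Sum.inl (!b, a) ≠ _
      cases b <;> simp
    · rw [mem_support]
      change Sum.inr (β y) ≠ _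
      intro h
      exact hβ1 y (Sum.inr.inj h)
  have hsv : (ψ v).support = Finset.univ := by
    rw [Finset.eq_univ_iff_forall]
    intro y
    rw [mem_support]; exact hfix y
  have hs : (ψ v).support.card = (Equiv.Perm.sumCongr (fl m) β).support.card := by
    rw [hsf, hsv, Finset.card_univ, Finset.card_univ, hc1]
  have hvv : ψ v * ψ v = 1 := by rw [← map_mul, h2 v hv, map_one]
  obtain ⟨ι₀⟩ : Nonempty (((Bool × ZMod m) ⊕ B) ↪ Fin n) := by
    rw [Function.Embedding.nonempty_iff_card_le]; exact hc1.le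
  obtain ⟨ι, hι⟩ := exists_model _ hff ι₀ (ψ v) hvv hs
  have hvia := eq_via hs hι
  obtain ⟨w, hw, hw1, hwp⟩ := two_circles hψ hA hc h2 hT hm hm1 hv hv1 ι hvia
  refine ⟨Equiv.ofBijective ι ((Fintype.bijective_iff_injective_and_card ι).2 ⟨ι.injective, hc1⟩), w, hw, hw1, hwp⟩

include hψ hA hc h2 hT in
/-- no elementary abelian subgroup `V ≠ 1` of a group between `A_n` and `S_n`, `n ≥ 5`, satisfies the elementary tool -/
theorem not_elemT (hn : 5 ≤ n) (hV1 : V ≠ ⊥) : False := by
  have : Finite G := Finite.of_injective ψ hψ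
  obtain ⟨v, hv, hmax⟩ := (Set.toFinite (V : Set G)).exists_maximalFor (fun u => (ψ u).support.card) (V : Set G)
    ⟨1, V.one_mem⟩
  have hmax' : ∀ u ∈ V, (ψ u).support.card ≤ (ψ v).support.card := by
    intro u hu
    rcases le_total (ψ u).support.card (ψ v).support.card with h | h
    · exact h
    · exact hmax hu h
  have hv1 : v ≠ 1 := by
    rintro rfl
    apply hV1
    rw [eq_bot_iff]
    intro u hu
    have h3 := hmax' u hu
    rw [map_one, support_one, Finset.card_empty, Nat.le_zero, Finset.card_eq_zero, support_eq_empty_iff] at h3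
    rw [Subgroup.mem_bot]
    exact hψ (by rw [h3, map_one])
  have hfix := no_fixed hψ hA h2 hT hv hv1 hmax'
  have hsv : (ψ v).support = Finset.univ := by
    rw [Finset.eq_univ_iff_forall]
    intro y
    rw [mem_support]; exact hfix y
  have hvv : ψ v * ψ v = 1 := by rw [← map_mul, h2 v hv, map_one]
  obtain ⟨k, hk⟩ : ∃ k, n = 2 * k := by
    have h3 := cycleType_invol (ψ v) hvv
    have h4 := Equiv.Perm.sum_cycleType (ψ v)
    rw [h3, Multiset.sum_replicate, smul_eq_mul, hsv, Finset.card_univ, Fintype.card_fin] at h4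
    exact ⟨n / 2, by omega⟩
  rcases Nat.even_or_odd k with hk' | hk'
  · -- `n = 2 (k - 1) + 2`
    obtain ⟨j, hj⟩ := hk'
    obtain ⟨ι, w, hw, hw1, hwp⟩ := fpf hψ hA hc h2 hT (m := k - 1) ⟨j - 1, by omega⟩ (by omega) (B := Bool)
      (β := swap false true) (by ext b; cases b <;> rfl) (fun b => by cases b <;> decide) hv hv1 hfix
      (by rw [Fintype.card_bool]; omega)
    have hww : ψ w * ψ w = 1 := by rw [← map_mul, h2 w hw, map_one]
    have hww' : ∀ y, ψ w (ψ w y) = y := fun y => by rw [← Perm.mul_apply, hww, Perm.one_apply]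
    obtain ⟨y, hy⟩ : ∃ y, ψ w y ≠ y := by
      by_contra h
      push Not at h
      exact hw1 (hψ (by rw [map_one]; ext y; rw [h y, Perm.one_apply]))
    obtain ⟨z, rfl⟩ := ι.surjective y
    obtain p | b := z
    · exact hy (hwp p)
    have h3 : ψ w (ι (Sum.inr b)) = ι (Sum.inr (!b)) := by
      obtain ⟨z, hz⟩ := ι.surjective (ψ w (ι (Sum.inr b)))
      obtain p | b' := z
      · have h4 := hww' (ι (Sum.inr b))
        rw [← hz, hwp] at h4
        exact absurd (ι.injective h4) (by simp)
      · rw [← hz] at hy ⊢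
        have h4 : b' ≠ b := fun h => hy (by rw [h])
        have h5 : b' = !b := by cases b <;> cases b' <;> simp_all
        rw [h5]
    have h4 : ψ w (ι (Sum.inr (!b))) = ι (Sum.inr b) := by rw [← h3, hww']
    have h5 : ι (Sum.inr b) ≠ ι (Sum.inr (!b)) := fun h => by
      have := ι.injective h
      cases b <;> simp at this
    refine no_transposition hψ hA hc h2 hT (by omega) ⟨k, by omega⟩ hw h5 ?_
    apply Equiv.ext
    intro y
    obtain ⟨z, rfl⟩ := ι.surjective y
    obtain p | c := z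
    · rw [hwp, swap_apply_of_ne_of_ne (fun h => by simpa using ι.injective h) (fun h => by simpa using ι.injective h)]
    · by_cases hcb : c = b
      · rw [hcb, swap_apply_left, h3]
      · have : c = !b := by cases b <;> cases c <;> simp_all
        rw [this, swap_apply_right, h4]
  · -- `n = 2 k`
    obtain ⟨ι, w, hw, hw1, hwp⟩ := fpf hψ hA hc h2 hT (m := k) hk' (by omega) (B := Empty)
      (β := 1) rfl (fun b => b.elim) hv hv1 hfix (by simpa using hk)
    apply hw1 (hψ _)
    rw [map_one]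
    apply Equiv.ext
    intro y
    obtain ⟨z, rfl⟩ := ι.surjective y
    obtain p | b := z
    · exact hwp p
    · exact b.elim

end main

end Cfsg.Agent.H277.SK
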