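import Cfsg.Agent.S2119
import Cfsg.Agent.H277.SK.AltPerm
import Cfsg.Agent.H282.SK.Def

/-!
# Sidki pairs in almost simple groups with alternating socle (helper277)

`not_elemT_alt` : the row `K ≅ A_n`, `n ≥ 5`, `n ≠ 6`.
-/

set_option autoImplicit false

universe u

namespace Cfsg.Agent.H277.SK

open Equiv Equiv.Perm

/-- the row `F*(G) = K ≅ A_n`, `n ≥ 5`, `n ≠ 6` -/
theorem not_elemT_alt {G : Type*} [Group G] (K : Subgroup G) [K.Normal]
    (hCK : Subgroup.centralizer (K : Set G) = ⊥) {n : ℕ} (hn : 5 ≤ n) (h6 : n ≠ 6)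
    (e : K ≃* alternatingGroup (Fin n)) (V : Subgroup G) (hc : ∀ a ∈ V, ∀ b ∈ V, a * b = b * a)
    (h2 : ∀ a ∈ V, a * a = 1) (hV1 : V ≠ ⊥) (hT : ElemT V) : False := by
  set a : Perm (Fin n) ≃* MulAut (alternatingGroup (Fin n)) :=
    MulEquiv.ofBijective MulAut.conjNormal (Cfsg.Agent.S2119.result n (by omega) h6) with ha
  set ψ : G →* Perm (Fin n) :=
    (a.symm.toMonoidHom.comp (MulAut.congr e).toMonoidHom).comp (MulAut.conjNormal : G →* MulAut K) with hψ
  have h1 : ∀ (g : G), a (ψ g) = MulAut.congr e (MulAut.conjNormal g) := fun g => a.apply_symm_apply _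
  refine not_elemT (ψ := ψ) ?_ ?_ hc h2 hT hn hV1
  · rw [injective_iff_map_eq_one]
    intro g hg
    have h3 := h1 g
    rw [hg, map_one] at h3
    have h4 : (MulAut.conjNormal g : MulAut K) = 1 := (MulAut.congr e).injective (by rw [← h3, map_one])
    have h5 : g ∈ Subgroup.centralizer (K : Set G) := by
      rw [Subgroup.mem_centralizer_iff]
      intro k hk
      have h6 := MulAut.conjNormal_apply (H := K) g ⟨k, hk⟩
      rw [h4, MulAut.one_apply] at h6
      change k = g * k * g⁻¹ at h6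
      nth_rewrite 1 [h6]
      rw [inv_mul_cancel_right]
    rw [hCK, Subgroup.mem_bot] at h5
    exact h5
  · intro σ hσ
    refine ⟨e.symm ⟨σ, Perm.mem_alternatingGroup.2 hσ⟩, ?_⟩
    apply a.injective
    rw [h1]
    apply MulEquiv.ext
    intro x
    rw [MulAut.conjNormal_val]
    apply Subtype.ext
    have h3 : (MulAut.congr e) (MulAut.conj (e.symm ⟨σ, Perm.mem_alternatingGroup.2 hσ⟩)) x =
      e (MulAut.conj (e.symm ⟨σ, Perm.mem_alternatingGroup.2 hσ⟩) (e.symm x)) := rfl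
    rw [h3, MulAut.conj_apply, map_mul, map_mul, map_inv, e.apply_symm_apply, e.apply_symm_apply]
    exact (MulAut.conjNormal_apply (H := alternatingGroup (Fin n)) σ x).symm

/-- the elementary tool in a minimal counterexample of S3010 -/
theorem elemT_of_cx {G : Type*} [Group G] [Finite G] {V K : Subgroup G} (h : Cfsg.Agent.H282.SK.Cx V K) : ElemT V := by
  intro v hv hv1 x _ hx hinv
  obtain ⟨w, hw, hw1, hwx, hwO⟩ := h.t1 hv hv1 hx hinv
  refine ⟨w, hw, hw1, hwx, fun y hy hyv hyx hwy => ?_⟩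
  exact Cfsg.Agent.H282.SK.eq_one_of_inv hwO (Subgroup.mem_inf.2 ⟨Subgroup.mem_centralizer_singleton_iff.2 hyv,
    Subgroup.mem_centralizer_singleton_iff.2 hyx⟩) hy hwy

/-- **the row ALT of S3010** -/
theorem dead_alt : Cfsg.Agent.H282.SK.DeadS.{u} (fun K _ => ∃ n : ℕ, 5 ≤ n ∧ n ≠ 6 ∧ Nonempty (K ≃* alternatingGroup (Fin n))) := by
  rintro G _ _ V K h ⟨n, hn, h6, ⟨e⟩⟩
  have := h.norm
  exact not_elemT_alt K h.cent hn h6 e V (fun a ha b hb => (h.comm ha hb).eq) (fun a ha => h.sq ha) h.V_ne_bot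
    (elemT_of_cx h)

end Cfsg.Agent.H277.SK
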