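import Cfsg.Agent.S2119
import Cfsg.Agent.H277.SK.AltPerm
import Cfsg.Agent.H282.SK.Def

/-!
# Sidki pairs in almost simple groups with socle `A_6` (helper277)

`dead_alt6` : the row `K ≅ A_6` of S3010.
-/

set_option autoImplicit false

universe u

namespace Cfsg.Agent.H277.SK

open Equiv Equiv.Perm

/-! ### two computations in `S_6` -/

/-- an involution commuting with a 3-cycle fixes its points -/
theorem fix3 {n : ℕ} {τ x : Perm (Fin n)} (h2 : τ * τ = 1) (hx : τ * x = x * τ) {p q r : Fin n} (hpq : x p = q)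
    (hqr : x q = r) (hrp : x r = p) (hne : p ≠ q) (hne' : q ≠ r) (hne'' : p ≠ r)
    (hsup : ∀ a, x a ≠ a → a = p ∨ a = q ∨ a = r) : τ p = p := by
  have h2' : ∀ i, τ (τ i) = i := fun i => by rw [← Perm.mul_apply, h2, Perm.one_apply]
  have hx' : ∀ i, τ (x i) = x (τ i) := fun i => by rw [← Perm.mul_apply, hx, Perm.mul_apply]
  rcases hsup (τ p) (fun h => by
    rw [← hx', hpq] at h
    exact hne (τ.injective h).symm) with h | h | h
  · exact h
  · -- `τ p = q`
    have h3 := hx' p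
    rw [h, hqr, hpq, ← h, h2'] at h3
    exact absurd h3 hne''
  · -- `τ p = r`
    have h3 := hx' p
    rw [h, hrp, hpq] at h3
    have h4 : τ r = p := by rw [← h, h2']
    exact absurd (τ.injective (h3.trans h4.symm)) hne'

theorem six_a {τ : Perm (Fin 6)} (h2 : τ * τ = 1) (hx : τ * (swap 0 1 * swap 0 4) = (swap 0 1 * swap 0 4) * τ)
    (hf : τ * (swap 0 1 * swap 2 3) = (swap 0 1 * swap 2 3) * τ) (h1 : τ ≠ 1) : τ = swap 2 3 := by
  have hf' : ∀ i, τ ((swap 0 1 * swap 2 3 : Perm (Fin 6)) i) = (swap 0 1 * swap 2 3 : Perm (Fin 6)) (τ i) := fun i => by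
    rw [← Perm.mul_apply, hf, Perm.mul_apply]
  have t0 : τ 0 = 0 := fix3 h2 hx (p := 0) (q := 4) (r := 1) (by decide) (by decide) (by decide) (by decide) (by decide)
    (by decide) (by decide)
  have t4 : τ 4 = 4 := fix3 h2 hx (p := 4) (q := 1) (r := 0) (by decide) (by decide) (by decide) (by decide) (by decide)
    (by decide) (by decide)
  have t1 : τ 1 = 1 := fix3 h2 hx (p := 1) (q := 0) (r := 4) (by decide) (by decide) (by decide) (by decide) (by decide)
    (by decide) (by decide)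
  have a3 := hf' 2
  rw [show (swap 0 1 * swap 2 3 : Perm (Fin 6)) 2 = 3 from by decide] at a3
  have k : ∀ a : Fin 6, a ≠ 0 → a ≠ 1 → a ≠ 4 → (swap 0 1 * swap 2 3 : Perm (Fin 6)) a ≠ a → a = 2 ∨ a = 3 := by decide
  have t5 : ∀ a : Fin 6, a ≠ 0 → a ≠ 1 → a ≠ 4 → a ≠ 2 → a ≠ 3 → a = 5 := by decide
  rcases k (τ 2) (fun h => absurd (τ.injective (h.trans t0.symm)) (by decide))
    (fun h => absurd (τ.injective (h.trans t1.symm)) (by decide))
    (fun h => absurd (τ.injective (h.trans t4.symm)) (by decide))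
    (fun h => absurd (τ.injective (a3.trans h)) (by decide)) with h | h
  · rw [h, show (swap 0 1 * swap 2 3 : Perm (Fin 6)) 2 = 3 from by decide] at a3
    have t5' := t5 (τ 5) (fun h => absurd (τ.injective (h.trans t0.symm)) (by decide))
      (fun h => absurd (τ.injective (h.trans t1.symm)) (by decide))
      (fun h => absurd (τ.injective (h.trans t4.symm)) (by decide))
      (fun h' => absurd (τ.injective (h'.trans h.symm)) (by decide))
      (fun h' => absurd (τ.injective (h'.trans a3.symm)) (by decide))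
    exact absurd (by ext i; fin_cases i <;> simp_all) h1
  · rw [h, show (swap 0 1 * swap 2 3 : Perm (Fin 6)) 3 = 2 from by decide] at a3
    have t5' := t5 (τ 5) (fun h => absurd (τ.injective (h.trans t0.symm)) (by decide))
      (fun h => absurd (τ.injective (h.trans t1.symm)) (by decide))
      (fun h => absurd (τ.injective (h.trans t4.symm)) (by decide))
      (fun h' => absurd (τ.injective (h'.trans a3.symm)) (by decide))
      (fun h' => absurd (τ.injective (h'.trans h.symm)) (by decide))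
    apply Equiv.ext
    intro i
    fin_cases i
    · exact t0
    · exact t1
    · exact h
    · exact a3
    · exact t4
    · exact t5'

theorem six_b {τ : Perm (Fin 6)}
    (hx : τ * (swap 0 1 * swap 0 4 * (swap 2 3 * swap 2 5)) = (swap 0 1 * swap 0 4 * (swap 2 3 * swap 2 5)) * τ)
    (hf : τ * (swap 0 1 * swap 2 3) = (swap 0 1 * swap 2 3) * τ) (hs : τ * swap 2 3 = swap 2 3 * τ) : τ = 1 := by
  have hx' : ∀ i, τ ((swap 0 1 * swap 0 4 * (swap 2 3 * swap 2 5) : Perm (Fin 6)) i) =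
      (swap 0 1 * swap 0 4 * (swap 2 3 * swap 2 5) : Perm (Fin 6)) (τ i) := fun i => by
    rw [← Perm.mul_apply, hx, Perm.mul_apply]
  have hs' : τ * swap 0 1 = swap 0 1 * τ := by
    have h3 : (τ * swap 0 1) * swap 2 3 = (swap 0 1 * τ) * swap 2 3 := by
      rw [mul_assoc, hf, mul_assoc, mul_assoc, hs]
    exact mul_right_cancel h3
  have e2 := hx' 2
  have e0 := hx' 0
  rw [show (swap 0 1 * swap 0 4 * (swap 2 3 * swap 2 5) : Perm (Fin 6)) 2 = 5 from by decide] at e2
  rw [show (swap 0 1 * swap 0 4 * (swap 2 3 * swap 2 5) : Perm (Fin 6)) 0 = 4 from by decide] at e0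
  rcases comm_swap hs (by decide) with ⟨t2, t3⟩ | ⟨t2, t3⟩
  · rcases comm_swap hs' (by decide) with ⟨t0, t1⟩ | ⟨t0, t1⟩
    · rw [t2, show (swap 0 1 * swap 0 4 * (swap 2 3 * swap 2 5) : Perm (Fin 6)) 2 = 5 from by decide] at e2
      rw [t0, show (swap 0 1 * swap 0 4 * (swap 2 3 * swap 2 5) : Perm (Fin 6)) 0 = 4 from by decide] at e0
      apply Equiv.ext
      intro i
      fin_cases i
      · exact t0
      · exact t1
      · exact t2
      · exact t3
      · exact e0
      · exact e2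
    · rw [t0, show (swap 0 1 * swap 0 4 * (swap 2 3 * swap 2 5) : Perm (Fin 6)) 1 = 0 from by decide] at e0
      exact absurd (τ.injective (e0.trans t1.symm)) (by decide)
  · rw [t2, show (swap 0 1 * swap 0 4 * (swap 2 3 * swap 2 5) : Perm (Fin 6)) 3 = 2 from by decide] at e2
    exact absurd (τ.injective (e2.trans t3.symm)) (by decide)

/-! ### the two classes of elements of order 3 of `A_6` -/

/-- the type `3^1` -/
def T3 (x : alternatingGroup (Fin 6)) : Prop := (x : Perm (Fin 6)).IsThreeCycle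

/-- the type `3^2` -/
def Q3 (x : alternatingGroup (Fin 6)) : Prop := (x : Perm (Fin 6)).cycleType = {3, 3}

theorem T3_or_Q3 {x : alternatingGroup (Fin 6)} (h : orderOf x = 3) : T3 x ∨ Q3 x := by
  have h3 : orderOf (x : Perm (Fin 6)) = 3 := by rw [Subgroup.orderOf_coe]; exact h
  obtain ⟨n, hn⟩ := cycleType_prime_order (σ := (x : Perm (Fin 6))) (by rw [h3]; exact Nat.prime_three)
  rw [h3] at hn
  have h4 := Equiv.Perm.sum_cycleType (x : Perm (Fin 6))
  have h5 : (x : Perm (Fin 6)).support.card ≤ 6 := by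
    have := Finset.card_le_univ (x : Perm (Fin 6)).support
    rwa [Fintype.card_fin] at this
  rw [hn, Multiset.sum_replicate, smul_eq_mul] at h4
  have h6 : n = 0 ∨ n = 1 := by omega
  rcases h6 with rfl | rfl
  · exact Or.inl hn
  · exact Or.inr hn

theorem T3_not_Q3 {x : alternatingGroup (Fin 6)} (h : T3 x) (h' : Q3 x) : False := by
  unfold T3 IsThreeCycle at h
  unfold Q3 at h'
  rw [h] at h'
  have := congrArg Multiset.card h'
  simp at this

theorem T3_conj {x y : alternatingGroup (Fin 6)} (h : IsConj x y) (hx : T3 x) : T3 y := by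
  obtain ⟨g, hg⟩ := isConj_iff.1 h
  unfold T3 IsThreeCycle at hx ⊢
  rw [← hg, Subgroup.coe_mul, Subgroup.coe_mul, Subgroup.coe_inv, cycleType_conj]; exact hx

theorem Q3_conj {x y : alternatingGroup (Fin 6)} (h : IsConj x y) (hx : Q3 x) : Q3 y := by
  obtain ⟨g, hg⟩ := isConj_iff.1 h
  unfold Q3 at hx ⊢
  rw [← hg, Subgroup.coe_mul, Subgroup.coe_mul, Subgroup.coe_inv, cycleType_conj]; exact hx

theorem conj_T3 {x y : alternatingGroup (Fin 6)} (hx : T3 x) (hy : T3 y) : IsConj x y :=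
  alternatingGroup.isThreeCycle_isConj (by rw [Nat.card_eq_fintype_card, Fintype.card_fin]; norm_num) hx hy

theorem type_x0 : (swap 0 1 * swap 0 4 * (swap 2 3 * swap 2 5) : Perm (Fin 6)).cycleType = {3, 3} := by
  have h1 : (swap 0 1 * swap 0 4 : Perm (Fin 6)).IsThreeCycle := isThreeCycle_swap_mul_swap_same (by decide) (by decide) (by decide)
  have h2 : (swap 2 3 * swap 2 5 : Perm (Fin 6)).IsThreeCycle := isThreeCycle_swap_mul_swap_same (by decide) (by decide) (by decide)
  have h3 : Disjoint (swap 0 1 * swap 0 4 : Perm (Fin 6)) (swap 2 3 * swap 2 5) := by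
    intro i; revert i; decide
  rw [h3.cycleType_mul, h1.cycleType, h2.cycleType]; rfl

theorem conj_Q3 {x y : alternatingGroup (Fin 6)} (hx : Q3 x) (hy : Q3 y) : IsConj x y := by
  unfold Q3 at hx hy
  obtain ⟨c, hc⟩ := isConj_iff.1 (isConj_iff_cycleType_eq.2 (hx.trans hy.symm))
  rcases Int.units_eq_one_or (Perm.sign c) with h | h
  · exact isConj_iff.2 ⟨⟨c, Perm.mem_alternatingGroup.2 h⟩, Subtype.ext hc⟩
  · obtain ⟨d, hd⟩ := isConj_iff.1 (isConj_iff_cycleType_eq.2 (type_x0.trans hx.symm))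
    set e : Perm (Fin 6) := swap 0 2 * swap 4 5 * swap 1 3 with he
    have h3 : e * (swap 0 1 * swap 0 4 * (swap 2 3 * swap 2 5)) * e⁻¹ = swap 0 1 * swap 0 4 * (swap 2 3 * swap 2 5) := by
      rw [he]; decide
    have h4 : (d * e * d⁻¹) * x * (d * e * d⁻¹)⁻¹ = x := by
      rw [← hd]
      calc _ = d * (e * (swap 0 1 * swap 0 4 * (swap 2 3 * swap 2 5)) * e⁻¹) * d⁻¹ := by group
        _ = _ := by rw [h3]
    have h5 : sign (c * (d * e * d⁻¹)) = 1 := by
      rw [map_mul, map_mul, map_mul, h]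
      have : sign e = -1 := by rw [he]; decide
      rw [this, map_inv]
      rcases Int.units_eq_one_or (Perm.sign d) with h6 | h6 <;> rw [h6] <;> decide
    refine isConj_iff.2 ⟨⟨c * (d * e * d⁻¹), Perm.mem_alternatingGroup.2 h5⟩, Subtype.ext ?_⟩
    change c * (d * e * d⁻¹) * x * (c * (d * e * d⁻¹))⁻¹ = y
    calc c * (d * e * d⁻¹) * x * (c * (d * e * d⁻¹))⁻¹ = c * ((d * e * d⁻¹) * x * (d * e * d⁻¹)⁻¹) * c⁻¹ := by group
      _ = y := by rw [h4, hc]

/-! ### automorphisms preserving the 3-cycles -/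

/-- `α` preserves the class of 3-cycles -/
def Pr (α : MulAut (alternatingGroup (Fin 6))) : Prop := ∀ x, T3 x → T3 (α x)

theorem map_conj {α : MulAut (alternatingGroup (Fin 6))} {x y : alternatingGroup (Fin 6)} (h : IsConj x y) :
    IsConj (α x) (α y) := α.toMonoidHom.map_isConj h

theorem conj_of_map {α : MulAut (alternatingGroup (Fin 6))} {x y : alternatingGroup (Fin 6)} (h : IsConj (α x) (α y)) :
    IsConj x y := by
  have h1 := map_conj (α := α⁻¹) h
  rwa [show α⁻¹ (α x) = x from α.symm_apply_apply x, show α⁻¹ (α y) = y from α.symm_apply_apply y] at h1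

theorem ord_T3 {x : alternatingGroup (Fin 6)} (h : T3 x) : orderOf x = 3 := by
  rw [← Subgroup.orderOf_coe]; exact IsThreeCycle.orderOf h

theorem ord_Q3 {x : alternatingGroup (Fin 6)} (h : Q3 x) : orderOf x = 3 := by
  rw [← Subgroup.orderOf_coe, ← lcm_cycleType, h]; decide

theorem map_T3 {α : MulAut (alternatingGroup (Fin 6))} {x : alternatingGroup (Fin 6)} (h : T3 x) :
    T3 (α x) ∨ Q3 (α x) := T3_or_Q3 (by rw [MulEquiv.orderOf_eq]; exact ord_T3 h)

theorem map_Q3 {α : MulAut (alternatingGroup (Fin 6))} {x : alternatingGroup (Fin 6)} (h : Q3 x) :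
    T3 (α x) ∨ Q3 (α x) := T3_or_Q3 (by rw [MulEquiv.orderOf_eq]; exact ord_Q3 h)

theorem pr_of_T3 {α : MulAut (alternatingGroup (Fin 6))} {x : alternatingGroup (Fin 6)} (h : T3 x) (h' : T3 (α x)) :
    Pr α := fun _ hy => T3_conj (map_conj (conj_T3 h hy)) h'

theorem pr_of_Q3 {α : MulAut (alternatingGroup (Fin 6))} {x : alternatingGroup (Fin 6)} (h : Q3 x) (h' : Q3 (α x)) :
    Pr α := by
  intro y hy
  rcases map_T3 (α := α) hy with h1 | h1
  · exact h1
  · exact (T3_not_Q3 hy (Q3_conj (conj_of_map (conj_Q3 h' h1)) h)).elim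

theorem pr_mul {α β : MulAut (alternatingGroup (Fin 6))} (hα : ¬ Pr α) (hβ : ¬ Pr β) : Pr (α * β) := by
  intro x hx
  rw [MulAut.mul_apply]
  rcases map_T3 (α := β) hx with h1 | h1
  · exact absurd (pr_of_T3 hx h1) hβ
  · rcases map_Q3 (α := α) h1 with h2 | h2
    · exact h2
    · exact absurd (pr_of_Q3 h1 h2) hα

/-- conjugation -/
def cn : Perm (Fin 6) →* MulAut (alternatingGroup (Fin 6)) := MulAut.conjNormal

theorem cn_apply (σ : Perm (Fin 6)) (x : alternatingGroup (Fin 6)) :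
    ((cn σ x : alternatingGroup (Fin 6)) : Perm (Fin 6)) = σ * x * σ⁻¹ := MulAut.conjNormal_apply σ x

theorem cn_inj : Function.Injective cn := by
  intro s t h
  have hs : ∀ x : alternatingGroup (Fin (4 + 2)), (s * x * s⁻¹ : Perm (Fin (4 + 2))) = t * x * t⁻¹ := by
    intro x
    have := DFunLike.congr_fun h x
    have h2 := congrArg Subtype.val this
    rwa [cn_apply, cn_apply] at h2
  exact Cfsg.Agent.StandardComponent.AltAut.conj_unique (m := 4) (by omega) hs

theorem pr_cn {α : MulAut (alternatingGroup (Fin 6))} (h : Pr α) : ∃ σ, cn σ = α := by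
  obtain ⟨σ, hσ⟩ := Cfsg.Agent.S2119.exists_conj_of (m := 4) (by omega) α (fun i hi => h _ (Cfsg.Agent.StandardComponent.AltAut.isThreeCycle_cyc hi))
  exact ⟨σ, by apply MulEquiv.ext; intro x; apply Subtype.ext; rw [cn_apply, hσ]⟩

/-- inner automorphisms -/
def Ev (α : MulAut (alternatingGroup (Fin 6))) : Prop := ∃ σ, sign σ = 1 ∧ cn σ = α

/-- automorphisms induced by odd permutations -/
def Od (α : MulAut (alternatingGroup (Fin 6))) : Prop := ∃ σ, sign σ = -1 ∧ cn σ = α

theorem ev_or_od {α : MulAut (alternatingGroup (Fin 6))} (h : Pr α) : Ev α ∨ Od α := by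
  obtain ⟨σ, hσ⟩ := pr_cn h
  rcases Int.units_eq_one_or (Perm.sign σ) with h1 | h1
  · exact Or.inl ⟨σ, h1, hσ⟩
  · exact Or.inr ⟨σ, h1, hσ⟩

theorem ev_mul {α β : MulAut (alternatingGroup (Fin 6))} (hα : Ev α) (hβ : Ev β) : Ev (α * β) := by
  obtain ⟨σ, h1, rfl⟩ := hα
  obtain ⟨τ, h2, rfl⟩ := hβ
  exact ⟨σ * τ, by rw [map_mul, h1, h2]; rfl, map_mul _ _ _⟩

theorem od_mul {α β : MulAut (alternatingGroup (Fin 6))} (hα : Od α) (hβ : Od β) : Ev (α * β) := by
  obtain ⟨σ, h1, rfl⟩ := hα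
  obtain ⟨τ, h2, rfl⟩ := hβ
  exact ⟨σ * τ, by rw [map_mul, h1, h2]; rfl, map_mul _ _ _⟩

theorem pigeon {α β : Type*} [Finite α] [Finite β] (f : α → β) (h : Nat.card β < Nat.card α) :
    ∃ x y, x ≠ y ∧ f x = f y := by
  by_contra hcon
  push Not at hcon
  have h1 : Function.Injective f := fun x y hxy => by
    by_contra hne
    exact hcon x y hne hxy
  have := Nat.card_le_card_of_injective f h1
  omega

/-- a subgroup of order at least 5 of exponent 2 contains a nontrivial inner automorphism -/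
theorem exists_ev {G : Type*} [Group G] [Finite G] (ψ : G →* MulAut (alternatingGroup (Fin 6))) {V : Subgroup G}
    (hc : ∀ a ∈ V, ∀ b ∈ V, a * b = b * a) (h2 : ∀ a ∈ V, a * a = 1) (h8 : 8 ≤ Nat.card V) :
    ∃ v ∈ V, v ≠ 1 ∧ Ev (ψ v) := by
  classical
  have key : ∀ u v : V, u ≠ v → (u * v : G) ≠ 1 := by
    intro u v huv h
    apply huv
    have h3 := h2 u u.2
    exact Subtype.ext (mul_left_cancel (h3.trans h.symm))
  by_cases hall : ∀ v ∈ V, Pr (ψ v)
  · obtain ⟨u, v, huv, hf⟩ := pigeon (α := V) (β := Bool) (fun u => decide (Ev (ψ u)))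
      (by rw [Nat.card_eq_fintype_card (α := Bool), Fintype.card_bool]; omega)
    refine ⟨u * v, V.mul_mem u.2 v.2, key u v huv, ?_⟩
    rw [map_mul]
    by_cases hu : Ev (ψ u)
    · have hv : Ev (ψ v) := by simpa [hu] using hf
      exact ev_mul hu hv
    · have hv : ¬ Ev (ψ v) := by simpa [hu] using hf
      exact od_mul ((ev_or_od (hall u u.2)).resolve_left hu) ((ev_or_od (hall v v.2)).resolve_left hv)
  · push Not at hall
    obtain ⟨v0, hv0, hn0⟩ := hall
    obtain ⟨u, v, huv, hf⟩ := pigeon (α := V) (β := Bool × Bool)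
      (fun u => (decide (Pr (ψ u)), if Pr (ψ u) then decide (Ev (ψ u)) else decide (Ev (ψ (v0 * u)))))
      (by rw [Nat.card_eq_fintype_card (α := Bool × Bool), Fintype.card_prod, Fintype.card_bool]; omega)
    refine ⟨u * v, V.mul_mem u.2 v.2, key u v huv, ?_⟩
    rw [Prod.mk.injEq] at hf
    obtain ⟨hf1, hf2⟩ := hf
    by_cases hu : Pr (ψ u)
    · have hv : Pr (ψ v) := by simpa [hu] using hf1
      rw [if_pos hu, if_pos hv] at hf2
      rw [map_mul]
      by_cases hu' : Ev (ψ u)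
      · have hv' : Ev (ψ v) := by simpa [hu'] using hf2
        exact ev_mul hu' hv'
      · have hv' : ¬ Ev (ψ v) := by simpa [hu'] using hf2
        exact od_mul ((ev_or_od hu).resolve_left hu') ((ev_or_od hv).resolve_left hv')
    · have hv : ¬ Pr (ψ v) := by simpa [hu] using hf1
      rw [if_neg hu, if_neg hv] at hf2
      have h3 : ψ (u * v) = ψ (v0 * u) * ψ (v0 * v) := by
        rw [← map_mul]
        congr 1
        calc (u * v : G) = v0 * v0 * (u * v) := by rw [h2 v0 hv0, one_mul]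
          _ = v0 * (v0 * u) * v := by simp only [mul_assoc]
          _ = v0 * (u * v0) * v := by rw [hc v0 hv0 u u.2]
          _ = v0 * u * (v0 * v) := by simp only [mul_assoc]
      have pu : Pr (ψ (v0 * u)) := by rw [map_mul]; exact pr_mul hn0 hu
      have pv : Pr (ψ (v0 * v)) := by rw [map_mul]; exact pr_mul hn0 hv
      rw [h3]
      by_cases hu' : Ev (ψ (v0 * u))
      · have hv' : Ev (ψ (v0 * v)) := (decide_eq_decide.1 hf2).1 hu'
        exact ev_mul hu' hv'
      · have hv' : ¬ Ev (ψ (v0 * v)) := fun h' => hu' ((decide_eq_decide.1 hf2).2 h')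
        exact od_mul ((ev_or_od pu).resolve_left hu') ((ev_or_od pv).resolve_left hv')

/-- the contradiction -/
theorem not_sidki_six {G : Type*} [Group G] [Finite G] (ψ : G →* MulAut (alternatingGroup (Fin 6)))
    (hψ : Function.Injective ψ) (hA : ∀ σ : Perm (Fin 6), sign σ = 1 → ∃ g : G, ψ g = cn σ) {V : Subgroup G}
    (hc : ∀ a ∈ V, ∀ b ∈ V, a * b = b * a) (h2 : ∀ a ∈ V, a * a = 1) (h8 : 8 ≤ Nat.card V)
    (hS : Cfsg.IsSidkiPair V) : False := by
  obtain ⟨v, hv, hv1, σ, hσs, hσ⟩ := exists_ev ψ hc h2 h8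
  have hσ2 : σ * σ = 1 := cn_inj (by rw [map_mul, hσ, ← map_mul, h2 v hv, map_one, map_one])
  have hσ1 : σ ≠ 1 := fun h => hv1 (hψ (by rw [← hσ, h, map_one, map_one]))
  -- the tool
  have tool : ∀ x : Perm (Fin 6), sign x = 1 → Odd (orderOf x) → σ * x * σ⁻¹ = x⁻¹ →
      ∃ w ∈ V, w ≠ 1 ∧ ψ w * cn x = cn x * ψ w := by
    intro x hx hxo hinv
    obtain ⟨g, hg⟩ := hA x hx
    obtain ⟨w, hw, hw1, hwg⟩ := hS g v hv (by
      rw [← orderOf_injective ψ hψ, hg, orderOf_injective cn cn_inj]; exact hxo)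
      (hψ (by rw [map_mul, map_mul, map_inv, map_inv, ← hσ, hg, ← map_mul, ← map_inv, ← map_mul, hinv, map_inv]))
    exact ⟨w, hw, hw1, by rw [← hg, ← map_mul, ← map_mul, hwg]⟩
  -- the model
  have hcard : σ.support.card = (swap 0 1 * swap 2 3 : Perm (Fin 6)).support.card := by
    rw [show (swap 0 1 * swap 2 3 : Perm (Fin 6)).support.card = 4 from by decide]
    have h3 := cycleType_invol σ hσ2
    have h4 := Equiv.Perm.sum_cycleType σ
    have h5 := Equiv.Perm.sign_of_cycleType σ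
    rw [h3, hσs, Multiset.sum_replicate, Multiset.card_replicate, smul_eq_mul] at h5
    rw [h3, Multiset.sum_replicate, smul_eq_mul] at h4
    have h6 : σ.support.card ≤ 6 := by
      have := Finset.card_le_univ σ.support
      rwa [Fintype.card_fin] at this
    have h7 : σ.support.card ≠ 0 := by
      rw [Ne, Finset.card_eq_zero, support_eq_empty_iff]; exact hσ1
    generalize σ.support.card = k at h4 h5 h6 h7
    have h8 : k = 2 ∨ k = 4 ∨ k = 6 := by omega
    rcases h8 with rfl | rfl | rfl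
    · exact absurd h5 (by decide)
    · rfl
    · exact absurd h5 (by decide)
  obtain ⟨ι, hι⟩ := exists_model (swap 0 1 * swap 2 3 : Perm (Fin 6)) (by decide) (Function.Embedding.refl _) σ hσ2 hcard
  set c : Perm (Fin 6) := Equiv.ofBijective ι (Finite.injective_iff_bijective.1 ι.injective) with hcd
  have hσc : σ * c = c * (swap 0 1 * swap 2 3) := by
    apply Equiv.ext
    intro i
    exact hι i
  have hσc' : σ = c * (swap 0 1 * swap 2 3) * c⁻¹ := by rw [← hσc, mul_inv_cancel_right]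
  -- the tool in the model
  have conjσ : ∀ X : Perm (Fin 6), σ * (c * X * c⁻¹) * σ⁻¹ = c * ((swap 0 1 * swap 2 3) * X * (swap 0 1 * swap 2 3)⁻¹) * c⁻¹ := by
    intro X
    rw [hσc']
    group
  have tool2 : ∀ X : Perm (Fin 6), sign X = 1 → X ^ 3 = 1 →
      (swap 0 1 * swap 2 3) * X * (swap 0 1 * swap 2 3)⁻¹ = X⁻¹ →
      ∃ w ∈ V, w ≠ 1 ∧ ψ w * cn (c * X * c⁻¹) = cn (c * X * c⁻¹) * ψ w := by
    intro X hX hX3 hXi
    refine tool (c * X * c⁻¹) ?_ ?_ ?_
    · rw [map_mul, map_mul, hX, mul_one, ← map_mul, mul_inv_cancel, map_one]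
    · have h3 : (c * X * c⁻¹) ^ 3 = 1 := by rw [conj_pow, hX3, mul_one, mul_inv_cancel]
      exact Odd.of_dvd_nat (by decide) (orderOf_dvd_of_pow_eq_one h3)
    · rw [conjσ, hXi]; group
  -- permutations induced by elements of `V`
  have perm_of : ∀ w ∈ V, w ≠ 1 → ∀ x : alternatingGroup (Fin 6), (T3 x ∨ Q3 x) → ψ w * cn x = cn x * ψ w →
      ∃ τ : Perm (Fin 6), cn (c * τ * c⁻¹) = ψ w ∧ τ * τ = 1 ∧ τ ≠ 1 ∧ (c * τ * c⁻¹) * x = x * (c * τ * c⁻¹) := by
    intro w hw hw1 x hx hwx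
    have h3 : (ψ w) x = x := by
      -- `cn (ψ w x) = ψ w * cn x * (ψ w)⁻¹ = cn x`
      apply Subtype.ext
      apply cn_inj
      apply MulEquiv.ext
      intro y
      have h4 := DFunLike.congr_fun hwx ((ψ w)⁻¹ y)
      rw [MulAut.mul_apply, MulAut.mul_apply, show (ψ w) ((ψ w)⁻¹ y) = y from (ψ w).apply_symm_apply y] at h4
      rw [← h4]
      have h5 : ∀ (x y : alternatingGroup (Fin 6)), cn x y = x * y * x⁻¹ := fun x y => Subtype.ext (cn_apply _ _)
      rw [h5, h5, map_mul, map_mul, map_inv, show (ψ w) ((ψ w)⁻¹ y) = y from (ψ w).apply_symm_apply y]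
    have h4 : Pr (ψ w) := by
      rcases hx with hx | hx
      · exact pr_of_T3 hx (by rw [h3]; exact hx)
      · exact pr_of_Q3 hx (by rw [h3]; exact hx)
    obtain ⟨τ', hτ'⟩ := pr_cn h4
    have h5 : c * (c⁻¹ * τ' * c) * c⁻¹ = τ' := by group
    refine ⟨c⁻¹ * τ' * c, by rw [h5, hτ'], ?_, ?_, ?_⟩
    · have h6 : τ' * τ' = 1 := cn_inj (by rw [map_mul, hτ', ← map_mul, h2 w hw, map_one, map_one])
      calc c⁻¹ * τ' * c * (c⁻¹ * τ' * c) = c⁻¹ * (τ' * τ') * c := by group
        _ = 1 := by rw [h6]; group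
    · intro h6
      rw [h6] at h5
      apply hw1
      apply hψ
      rw [← hτ', ← h5]
      simp
    · rw [h5]
      apply cn_inj
      rw [map_mul, map_mul, hτ', hwx]
  have comm_of : ∀ u ∈ V, ∀ w ∈ V, ∀ σ' τ' : Perm (Fin 6), cn σ' = ψ u → cn τ' = ψ w → τ' * σ' = σ' * τ' := by
    intro u hu w hw σ' τ' hσ' hτ'
    apply cn_inj
    rw [map_mul, map_mul, hσ', hτ', ← map_mul, ← map_mul, hc w hw u hu]
  have back : ∀ X Y : Perm (Fin 6), (c * X * c⁻¹) * (c * Y * c⁻¹) = (c * Y * c⁻¹) * (c * X * c⁻¹) → X * Y = Y * X := by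
    intro X Y h
    have h3 : c * (X * Y) * c⁻¹ = c * (Y * X) * c⁻¹ := by
      calc c * (X * Y) * c⁻¹ = (c * X * c⁻¹) * (c * Y * c⁻¹) := by group
        _ = _ := h
        _ = _ := by group
    exact mul_left_cancel (mul_right_cancel h3)
  -- step 1
  have hX1 : sign (c * (swap 0 1 * swap 0 4) * c⁻¹) = 1 := by
    rw [map_mul, map_mul, show sign (swap 0 1 * swap 0 4 : Perm (Fin 6)) = 1 from by decide, mul_one, ← map_mul,
      mul_inv_cancel, map_one]
  obtain ⟨w, hw, hw1, hwx⟩ := tool2 (swap 0 1 * swap 0 4) (by decide) (by decide) (by decide)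
  obtain ⟨τ, hτ, hτ2, hτ1, hτx⟩ := perm_of w hw hw1 ⟨c * (swap 0 1 * swap 0 4) * c⁻¹, Perm.mem_alternatingGroup.2 hX1⟩
    (Or.inl (by
      change (c * (swap 0 1 * swap 0 4) * c⁻¹).cycleType = {3}
      rw [cycleType_conj]
      exact isThreeCycle_swap_mul_swap_same (by decide) (by decide) (by decide))) hwx
  have hτf : τ * (swap 0 1 * swap 2 3) = (swap 0 1 * swap 2 3) * τ := back _ _ (by
    rw [← hσc']
    exact comm_of v hv w hw σ (c * τ * c⁻¹) hσ hτ)
  have hτe : τ = swap 2 3 := six_a hτ2 (back _ _ hτx) hτf hτ1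
  -- step 2
  have hX2 : sign (c * (swap 0 1 * swap 0 4 * (swap 2 3 * swap 2 5)) * c⁻¹) = 1 := by
    rw [map_mul, map_mul, show sign (swap 0 1 * swap 0 4 * (swap 2 3 * swap 2 5) : Perm (Fin 6)) = 1 from by decide,
      mul_one, ← map_mul, mul_inv_cancel, map_one]
  obtain ⟨w', hw', hw1', hwx'⟩ := tool2 (swap 0 1 * swap 0 4 * (swap 2 3 * swap 2 5)) (by decide) (by decide) (by decide)
  obtain ⟨τ', hτ', -, hτ1', hτx'⟩ := perm_of w' hw' hw1'
    ⟨c * (swap 0 1 * swap 0 4 * (swap 2 3 * swap 2 5)) * c⁻¹, Perm.mem_alternatingGroup.2 hX2⟩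
    (Or.inr (by
      change (c * (swap 0 1 * swap 0 4 * (swap 2 3 * swap 2 5)) * c⁻¹).cycleType = {3, 3}
      rw [cycleType_conj]
      exact type_x0)) hwx'
  have hτf' : τ' * (swap 0 1 * swap 2 3) = (swap 0 1 * swap 2 3) * τ' := back _ _ (by
    rw [← hσc']
    exact comm_of v hv w' hw' σ (c * τ' * c⁻¹) hσ hτ')
  have hτs' : τ' * swap 2 3 = swap 2 3 * τ' := back _ _ (by
    rw [← hτe]
    exact comm_of w hw w' hw' (c * τ * c⁻¹) (c * τ' * c⁻¹) hτ hτ')
  exact hτ1' (six_b (back _ _ hτx') hτf' hτs')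

/-- **the row `A_6` of S3010** -/
theorem dead_alt6 : Cfsg.Agent.H282.SK.DeadS.{u} (fun K _ => Nonempty (K ≃* alternatingGroup (Fin 6))) := by
  rintro G _ _ V K h ⟨e⟩
  have := h.norm
  have hcn : ∀ (x y : alternatingGroup (Fin 6)), cn x y = x * y * x⁻¹ := fun x y => Subtype.ext (cn_apply _ _)
  refine not_sidki_six ((MulAut.congr e).toMonoidHom.comp (MulAut.conjNormal : G →* MulAut K)) ?_ ?_
    (fun a ha b hb => (h.comm ha hb).eq) (fun a ha => h.sq ha) h.card h.sidki
  · rw [injective_iff_map_eq_one]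
    intro g hg
    have h4 : (MulAut.conjNormal g : MulAut K) = 1 := (MulAut.congr e).injective (by rw [map_one]; exact hg)
    apply h.eq_one_of_comm
    intro k hk
    have h6 := MulAut.conjNormal_apply (H := K) g ⟨k, hk⟩
    rw [h4, MulAut.one_apply] at h6
    change k = g * k * g⁻¹ at h6
    nth_rewrite 2 [h6]
    rw [inv_mul_cancel_right]
  · intro σ hσ
    refine ⟨e.symm ⟨σ, Perm.mem_alternatingGroup.2 hσ⟩, ?_⟩
    apply MulEquiv.ext
    intro x
    change e (MulAut.conjNormal ((e.symm ⟨σ, Perm.mem_alternatingGroup.2 hσ⟩ : K) : G) (e.symm x)) = _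
    rw [MulAut.conjNormal_val, MulAut.conj_apply, map_mul, map_mul, map_inv, e.apply_symm_apply, e.apply_symm_apply]
    exact (hcn ⟨σ, Perm.mem_alternatingGroup.2 hσ⟩ x).symm

end Cfsg.Agent.H277.SK
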